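import Cfsg.Agent.ClassicalGeometry.HermOrthonormal

/-!
# Orthonormal bases of a Hermitian matrix over a finite field, in matrix form

`B = (B^φ)ᵀ` invertible over a finite field `L` with an involution `φ ≠ 1`: there is an invertible `C`
with `C * B * (C^φ)ᵀ = 1`; and one with `det C = 1` when `det B = 1`.
-/

set_option autoImplicit false

namespace Cfsg.Agent.H558.RG

open Cfsg.Agent.ClassicalGeometry Matrix

variable {L : Type*} [Field L] {n : Type*} [Fintype n] [DecidableEq n]

/-- The sesquilinear form `x, y ↦ y ⬝ B *ᵥ x^φ`. -/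
noncomputable def hform (φ : L ≃+* L) (B : Matrix n n L) :
    (n → L) →ₛₗ[(φ : L →+* L)] (n → L) →ₗ[L] L :=
  LinearMap.mk₂'ₛₗ (φ : L →+* L) (RingHom.id L) (fun x y => y ⬝ᵥ (B *ᵥ (fun i => φ (x i))))
    (fun x x' y => by
      have : (fun i => φ ((x + x') i)) = (fun i => φ (x i)) + (fun i => φ (x' i)) := by
        funext i; simp
      rw [this, mulVec_add, dotProduct_add])
    (fun c x y => by
      have : (fun i => φ ((c • x) i)) = φ c • (fun i => φ (x i)) := by
        funext i; simp
      rw [this, mulVec_smul, dotProduct_smul]; rfl)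
    (fun x y y' => by rw [add_dotProduct])
    (fun c x y => by rw [smul_dotProduct]; rfl)

omit [DecidableEq n] in
theorem hform_apply (φ : L ≃+* L) (B : Matrix n n L) (x y : n → L) :
    hform φ B x y = y ⬝ᵥ (B *ᵥ (fun i => φ (x i))) := rfl

omit [DecidableEq n] in
theorem hform_symm (φ : L ≃+* L) (hφ2 : ∀ a, φ (φ a) = a) (B : Matrix n n L)
    (hB : (B.map φ)ᵀ = B) (x y : n → L) : φ (hform φ B x y) = hform φ B y x := by
  rw [hform_apply, hform_apply]
  have hb : ∀ k l, φ (B k l) = B l k := fun k l => by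
    have := congrFun (congrFun hB l) k
    simpa [Matrix.transpose_apply, Matrix.map_apply] using this
  simp only [dotProduct, mulVec, map_sum, map_mul, hφ2, hb]
  simp only [Finset.mul_sum]
  rw [Finset.sum_comm]
  refine Finset.sum_congr rfl fun i _ => Finset.sum_congr rfl fun j _ => ?_
  ring

/-- The rows of an invertible matrix diagonalise a Hermitian matrix to `1`. -/
theorem exists_orthonormal' [Finite L] (φ : L ≃+* L) (hφ : φ ≠ RingEquiv.refl L)
    (hφ2 : ∀ a, φ (φ a) = a) (m : ℕ) (B : Matrix (Fin m) (Fin m) L) (hB : (B.map φ)ᵀ = B)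
    (hd : B.det ≠ 0) : ∃ C : Matrix (Fin m) (Fin m) L, C * B * (C.map φ)ᵀ = 1 := by
  have hσ : ((φ : L ≃+* L) : L →+* L) ≠ RingHom.id L := by
    intro h
    apply hφ
    ext a
    exact RingHom.congr_fun h a
  obtain ⟨b, hb⟩ := HermOrthonormal.exists_orthonormal_family (V := Fin m → L) hσ hφ2
    (hform φ B) ⟨fun x y => hform_symm φ hφ2 B hB x y⟩ (by
      intro x hx
      have h1 : B *ᵥ (fun i => φ (x i)) = 0 := by
        funext i
        have := hx (Pi.single i 1)
        rw [hform_apply, single_dotProduct, one_mul] at this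
        exact this
      have h2 : (fun i => φ (x i)) = 0 := by
        by_contra hne
        exact hd (Matrix.exists_mulVec_eq_zero_iff.mp ⟨_, hne, h1⟩)
      funext i
      have := congrFun h2 i
      simpa using this) m (by simp)
  refine ⟨Matrix.of b, ?_⟩
  ext i j
  have h1 := hb j i
  rw [hform_apply] at h1
  rw [Matrix.mul_assoc, Matrix.mul_apply, Matrix.one_apply]
  simp only [eq_comm (a := j)] at h1
  rw [← h1, dotProduct]
  rfl

/-- A Hermitian matrix of determinant `1` is `1` in a basis of determinant `1`. -/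
theorem exists_orthonormal_det [Finite L] (φ : L ≃+* L) (hφ : φ ≠ RingEquiv.refl L)
    (hφ2 : ∀ a, φ (φ a) = a) (m : ℕ) (B : Matrix (Fin m) (Fin m) L) (hB : (B.map φ)ᵀ = B)
    (hd : B.det = 1) :
    ∃ C : Matrix (Fin m) (Fin m) L, C.det = 1 ∧ C * B * (C.map φ)ᵀ = 1 := by
  obtain ⟨C, hC⟩ := exists_orthonormal' φ hφ hφ2 m B hB (by rw [hd]; exact one_ne_zero)
  cases m with
  | zero => exact ⟨C, by simp, hC⟩
  | succ m =>
  have hdet : C.det * φ C.det = 1 := by
    have h := congrArg Matrix.det hC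
    rw [det_mul, det_mul, hd, det_transpose, det_one, mul_one] at h
    have h2 : (C.map φ).det = φ C.det := by
      have := RingEquiv.map_det φ C
      rw [this]; rfl
    rw [h2] at h
    exact h
  have h0 : C.det ≠ 0 := fun h => by rw [h, zero_mul] at hdet; exact zero_ne_one hdet
  let u : Fin (m + 1) → L := fun i => if i = 0 then (C.det)⁻¹ else 1
  let D : Matrix (Fin (m + 1)) (Fin (m + 1)) L := Matrix.diagonal u
  have hu : ∀ i, u i * φ (u i) = 1 := by
    intro i
    by_cases hi : i = 0
    · simp only [u, hi, if_true]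
      rw [map_inv₀, ← mul_inv, hdet, inv_one]
    · simp only [u, hi, if_false, map_one, mul_one]
  have hDdet : D.det = (C.det)⁻¹ := by
    rw [det_diagonal, Fin.prod_univ_succ]
    simp [u]
  refine ⟨D * C, ?_, ?_⟩
  · rw [det_mul, hDdet, inv_mul_cancel₀ h0]
  · have h1 : ((D * C).map φ)ᵀ = (C.map φ)ᵀ * (D.map φ)ᵀ := by
      rw [Matrix.map_mul, transpose_mul]
    rw [h1, show D * C * B * ((C.map φ)ᵀ * (D.map φ)ᵀ) = D * (C * B * (C.map φ)ᵀ) * (D.map φ)ᵀ by
      simp only [Matrix.mul_assoc], hC, mul_one]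
    rw [show (D.map φ)ᵀ = Matrix.diagonal (fun i => φ (u i)) by
      rw [Matrix.diagonal_map (map_zero φ), diagonal_transpose]]
    rw [Matrix.diagonal_mul_diagonal]
    rw [show (fun i => u i * φ (u i)) = fun _ => (1 : L) from funext hu]
    exact diagonal_one

/-- **The `3`-dimensional case.** -/
theorem exists_orthonormal [Finite L] (φ : L ≃+* L) (hφ : φ ≠ RingEquiv.refl L)
    (hφ2 : ∀ a, φ (φ a) = a) (B : Matrix (Fin 3) (Fin 3) L) (hB : (B.map φ)ᵀ = B)
    (hd : B.det = 1) :
    ∃ C : Matrix (Fin 3) (Fin 3) L, C.det = 1 ∧ C * B * (C.map φ)ᵀ = 1 :=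
  exists_orthonormal_det φ hφ hφ2 3 B hB hd

end Cfsg.Agent.H558.RG
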